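import Cfsg.Agent.H34.LB.MDef
import Cfsg.Agent.H741.Lb.Defs
import Cfsg.Agent.H723.Lb.Card
import Cfsg.Agent.H80.K6.Out
import Cfsg.Agent.KFacts.MonsterE
import Cfsg.Agent.MonsterX.InstanceFinal
import Cfsg.Agent.MonsterP.Equiv
import Cfsg.Agent.CpAut.TwoTool

/-!
# S4879, the Monster, `p = 11`: the glue (helper34)

* `MIn M X` : what is needed on the model `X` of the Monster;
* `row_m` : the row.
-/

set_option autoImplicit false

namespace Cfsg.Agent.H34.LB

open Cfsg Subgroup Cfsg.Agent.MonsterX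

universe u

/-- the inputs on the model -/
structure MIn (M : Ideal AlgInt) (X : Type) [Group X] [Finite X] : Prop where
  cent : ∃ x : X, orderOf x = 11 ∧ blockRank 11 (principalBlock M ↥(centralizer ({x} : Set X))) ≤ 5
  dat : ∀ [Fintype ↥(principalBlock M X)], Nonempty (MDatG f2 ↥(principalBlock M X))

/-- **`k(B₀) ≥ 16`** -/
theorem card_ge (hN : MNum) {M : Ideal AlgInt} {X : Type} [Group X] [Finite X] (h : MIn M X) :
    16 ≤ Nat.card ↥(principalBlock M X) := by
  classical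
  have : Finite (IrrCharacter X) := S0909.finite_irr
  have : Finite ↥(principalBlock M X) := Subtype.finite
  have := Fintype.ofFinite ↥(principalBlock M X)
  by_contra h1
  have h2 : Fintype.card ↥(principalBlock M X) ≤ 15 := by
    rw [← Nat.card_eq_fintype_card]
    omega
  obtain ⟨D⟩ := h.dat
  exact hN _ h2 D

/-- **`l(B₀) ≥ 11`** -/
theorem rank_ge (hN : MNum) {M : Ideal AlgInt} (hM : IsPModular 11 M) {X : Type} [Group X] [Finite X]
    (hC : Cfsg.Agent.H634.Fus.OneClass 11 X) (h : MIn M X) : 11 ≤ blockRank 11 (principalBlock M X) := by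
  have : Fact (Nat.Prime 11) := ⟨by norm_num⟩
  obtain ⟨x, hx, h5⟩ := h.cent
  refine Cfsg.Agent.H723.LbC.le_rank_of_card hM hC (x := x) ⟨1, by rw [hx, pow_one]⟩ ?_ ?_
  · rintro rfl
    simp at hx
  · have := card_ge hN h
    omega

theorem inner_m {S : Type*} [Group S] (h : Spor.IsoM S) (α : S ≃* S) : ∃ s : S, ∀ x : S, α x = s * x * s⁻¹ := by
  obtain ⟨e⟩ := h
  obtain ⟨f⟩ := Cfsg.Agent.MonsterP.Equiv.equiv
  obtain ⟨g, hg⟩ := Cfsg.Agent.CpAut.TwoInner.inner_congr (e.trans f) (Cfsg.Agent.KFacts.MonsterE.inner_model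
    Cfsg.Agent.MonsterX.Instance.mGroup Cfsg.Agent.MonsterX.Instance.mRep Cfsg.Agent.MonsterX.Instance.mLat
    Cfsg.Agent.MonsterX.InstanceFinal.mOrbit Cfsg.Agent.MonsterX.Instance.mTrans) α
  exact ⟨g, fun x => by rw [hg]; rfl⟩

/-- **Row `M` of S4879.** -/
theorem row_m (hN : MNum) {M : Ideal AlgInt} (hM : IsPModular 11 M)
    (hfin : Finite ↥InstData.M.G) (h : MIn M ↥InstData.M.G) :
    Cfsg.Agent.H741.Lb.Row.{u} 11 M (fun S _ => Spor.IsoM S) := by
  intro G _ _ T _ hc hP hC _ hT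
  have htop : T = ⊤ := by
    rw [eq_top_iff]
    intro g _
    obtain ⟨s, hs⟩ := inner_m hT (MulAut.conjNormal g)
    have h1 : (s : G)⁻¹ * g = 1 := by
      apply hc
      intro t ht
      have h2 := hs ⟨t, ht⟩
      have h3 : g * t * g⁻¹ = (s : G) * t * (s : G)⁻¹ := by
        have h4 := congrArg (fun y : T => (y : G)) h2
        simpa using h4
      show (s : G)⁻¹ * g * t = t * ((s : G)⁻¹ * g)
      have h5 : g * t = (s : G) * t * (s : G)⁻¹ * g := by
        rw [← h3]
        group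
      rw [mul_assoc, h5]
      group
    have h2 : g = s := by
      rw [← one_mul g, ← mul_inv_cancel (s : G), mul_assoc, h1, mul_one]
    rw [h2]
    exact s.2
  subst htop
  obtain ⟨e1⟩ := hT
  obtain ⟨e2⟩ := Cfsg.Agent.MonsterP.Equiv.equiv
  obtain ⟨e⟩ : Nonempty (G ≃* ↥InstData.M.G) := ⟨(Subgroup.topEquiv.symm.trans e1).trans e2⟩
  rw [Cfsg.Agent.H80.K6.blockRank_equiv e]
  refine rank_ge hN hM ?_ h
  intro x y hx hx1 hy hy1
  have h1 : IsConj (e.symm x) (e.symm y) := by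
    apply hC
    · exact fun h2 => hx1 (by rw [← e.apply_symm_apply x, h2]; exact map_one e)
    · exact fun h2 => hy1 (by rw [← e.apply_symm_apply y, h2]; exact map_one e)
    · obtain ⟨k, hk⟩ := hx
      exact ⟨k, by rw [MulEquiv.orderOf_eq, hk]⟩
    · obtain ⟨k, hk⟩ := hy
      exact ⟨k, by rw [MulEquiv.orderOf_eq, hk]⟩
  obtain ⟨c, hc1⟩ := isConj_iff.mp h1
  refine isConj_iff.mpr ⟨e c, ?_⟩
  have h3 := congrArg e hc1
  rw [map_mul, map_mul, map_inv, e.apply_symm_apply, e.apply_symm_apply] at h3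
  exact h3

end Cfsg.Agent.H34.LB
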